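import Groth.Agent.S2351
import Groth.Agent.S9690
import Groth.Agent.BirNormal.Basic
import Groth.Agent.AlgSpDec.EtCompact
import Groth.Agent.Ref1X.BirConn

/-!
# Characterisation of the normalization
-/

set_option autoImplicit false
set_option backward.isDefEq.respectTransparency false
universe u
open CategoryTheory AlgebraicGeometry

namespace Groth.Agent.NormChar

variable (X : Scheme.{u}) [IsIntegral X]
  [QuasiCompact (X.fromSpecStalk (genericPoint X))] [QuasiSeparated (X.fromSpecStalk (genericPoint X))]

theorem isNormalScheme_of_iso {Y N : Scheme.{u}} (e : Y ≅ N) (h : Pi1.IsNormalScheme N) :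
    Pi1.IsNormalScheme Y := fun y => by
  let ε := (asIso (e.hom.stalkMap y)).commRingCatIsoToRingEquiv
  obtain ⟨h1, h2⟩ := h (e.hom y)
  haveI := h1
  haveI := h2
  haveI : IsDomain (Y.presheaf.stalk y) := ε.symm.toMulEquiv.isDomain _
  exact ⟨inferInstance, IsIntegrallyClosed.of_equiv ε⟩

theorem isIso_stalkMap_generic [IsIntegral (Curv2.normalization X)]
    (hgen : (Curv2.normalizationι X).base (genericPoint (Curv2.normalization X)) = genericPoint X)
    (hres : Function.Bijective
      ((Curv2.normalizationι X).residueFieldMap (genericPoint (Curv2.normalization X))).hom) :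
    IsIso ((Curv2.normalizationι X).stalkMap (genericPoint (Curv2.normalization X))) := by
  let φ := (Curv2.normalizationι X).stalkMap (genericPoint (Curv2.normalization X))
  have hX : IsField (X.presheaf.stalk ((Curv2.normalizationι X) (genericPoint (Curv2.normalization X)))) := by
    rw [hgen]; exact Field.toIsField X.functionField
  letI := hX.toField
  refine (ConcreteCategory.isIso_iff_bijective φ).2 ⟨RingHom.injective φ.hom, fun b => ?_⟩
  obtain ⟨a, ha⟩ := hres.2 (IsLocalRing.residue _ b)
  obtain ⟨a, rfl⟩ := IsLocalRing.residue_surjective a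
  refine ⟨a, ?_⟩
  letI : Field ((Curv2.normalization X).presheaf.stalk (genericPoint (Curv2.normalization X))) :=
    inferInstanceAs (Field (Curv2.normalization X).functionField)
  exact (IsLocalRing.residue _).injective ha

theorem normalization_iff {Y : Scheme.{u}} (f : Y ⟶ X) :
    (∃ e : Y ≅ Curv2.normalization X, e.hom ≫ Curv2.normalizationι X = f) ↔
      Pi1.IsNormalScheme Y ∧ IsIntegralHom f ∧
        ∃ _ : IrreducibleSpace ↥Y, f.base ⁻¹' {genericPoint X} = {genericPoint Y} ∧
          IsIso (f.stalkMap (genericPoint Y)) := by
  obtain ⟨hint, hnorm, -, hgen, -⟩ := S2351.result X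
  let ν := Curv2.normalizationι X
  haveI : IsIntegralHom ν := by
    show IsIntegralHom (X.fromSpecStalk (genericPoint X)).fromNormalization
    infer_instance
  have hfib : ∀ z : Curv2.normalization X, ν z = genericPoint X → z = genericPoint (Curv2.normalization X) :=
    fun z hz => (AlgSpDec.eq_of_specializes_of_isIntegralHom ν (genericPoint_specializes z)
      (hgen.trans hz.symm)).symm
  constructor
  · rintro ⟨e, rfl⟩
    haveI : Nonempty Y := ⟨e.inv (genericPoint (Curv2.normalization X))⟩
    haveI : IsIntegral Y := isIntegral_of_isOpenImmersion e.hom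
    have hη : e.hom (genericPoint Y) = genericPoint (Curv2.normalization X) :=
      genericPoint_eq_of_isOpenImmersion e.hom
    refine ⟨isNormalScheme_of_iso e hnorm, inferInstance, inferInstance, ?_, ?_⟩
    · ext y
      simp only [Set.mem_preimage, Set.mem_singleton_iff]
      refine ⟨fun hy => e.hom.isOpenEmbedding.injective ((hfib _ hy).trans hη.symm), fun hy => ?_⟩
      subst hy
      show ν (e.hom (genericPoint Y)) = _
      rw [hη]; exact hgen
    · rw [Scheme.Hom.stalkMap_comp]
      haveI : IsIso (ν.stalkMap (e.hom (genericPoint Y))) := by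
        rw [hη]
        obtain ⟨_, _, _, hgen', hres⟩ := S2351.result X
        exact isIso_stalkMap_generic X hgen' hres
      exact inferInstanceAs (IsIso (ν.stalkMap (e.hom (genericPoint Y)) ≫ e.hom.stalkMap _))
  · rintro ⟨hY, hf, hirr, hpre, hiso⟩
    haveI : ∀ y : Y, IsDomain (Y.presheaf.stalk y) := fun y => (hY y).1
    haveI : IsReduced Y := isReduced_of_isReduced_stalk Y
    haveI : IsIntegral Y := isIntegral_of_irreducibleSpace_of_isReduced Y
    have hfη : f (genericPoint Y) = genericPoint X := by
      have : genericPoint Y ∈ f.base ⁻¹' {genericPoint X} := by rw [hpre]; rfl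
      exact this
    have hdom : ∀ y : Y, closure {y} ∈ irreducibleComponents ↥Y → f.base y = genericPoint X := by
      intro y hy
      have h1 : closure {genericPoint Y} ⊆ closure {y} :=
        hy.2 isIrreducible_singleton.closure (closure_minimal
          (Set.singleton_subset_iff.2 (genericPoint_specializes y).mem_closure) isClosed_closure)
      have h2 : y ⤳ genericPoint Y := specializes_iff_mem_closure.2 (h1 (subset_closure rfl))
      rw [(h2.antisymm (genericPoint_specializes y)).eq]
      exact hfη
    obtain ⟨h, hh, -⟩ := S9690.result X f hY hdom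
    haveI : IsIntegralHom (h ≫ ν) := by rw [hh]; exact hf
    haveI : IsIntegralHom h := IsIntegralHom.of_comp h ν
    have hhη : h (genericPoint Y) = genericPoint (Curv2.normalization X) := hfib _ (by
      show (h ≫ ν) (genericPoint Y) = _
      rw [hh]; exact hfη)
    haveI : IsIso ((h ≫ ν).stalkMap (genericPoint Y)) := by
      subst hh; exact hiso
    have hb := (ConcreteCategory.isIso_iff_bijective ((h ≫ ν).stalkMap (genericPoint Y))).1 inferInstance
    rw [Scheme.Hom.stalkMap_comp] at hb
    have hfield : IsField ((Curv2.normalization X).presheaf.stalk (h (genericPoint Y))) := by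
      rw [hhη]; exact Field.toIsField (Curv2.normalization X).functionField
    have hsbij : Function.Bijective (h.stalkMap (genericPoint Y)).hom := by
      refine ⟨?_, fun b => ?_⟩
      · letI := hfield.toField
        exact RingHom.injective _
      · obtain ⟨a, ha⟩ := hb.2 b
        exact ⟨_, ha⟩
    haveI : IsIso h := BirNormal.isIso_of_isIntegralHom h
      (fun U hU hUa => by haveI := hU; exact Ref1X.isIntegrallyClosed_sections hnorm hUa) hhη (by
        haveI := BirNormal.isIso_stalkSpecializes_of_eq hhη (specializes_of_eq hhη)
        haveI : IsIso (h.stalkMap (genericPoint Y)) := (ConcreteCategory.isIso_iff_bijective _).2 hsbij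
        exact (ConcreteCategory.isIso_iff_bijective _).1 inferInstance)
    exact ⟨asIso h, hh⟩

end Groth.Agent.NormChar
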